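import Cfsg.Agent.Lib.Ind.Brauer
import Cfsg.Agent.Lib.Char.More

/-!
# Brauer's splitting field theorem
-/

set_option autoImplicit false

namespace Cfsg.Agent.Ind

open Cfsg Cfsg.Agent.Char
open scoped ComplexConjugate

universe u

section basechange
variable {K L G : Type*} [Field K] [Field L] [Group G]

/-- Base change of a matrix representation along a field homomorphism. -/
noncomputable def baseRep {n : ℕ} (τ : K →+* L) (ρ : Representation K G (Fin n → K)) :
    Representation L G (Fin n → L) where
  toFun g := Matrix.toLin' ((LinearMap.toMatrix' (ρ g)).map τ)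
  map_one' := by
    rw [map_one, Module.End.one_eq_id, LinearMap.toMatrix'_id,
      Matrix.map_one _ (map_zero τ) (map_one τ), Matrix.toLin'_one]
    rfl
  map_mul' g h := by
    rw [map_mul, LinearMap.toMatrix'_mul, Matrix.map_mul, Matrix.toLin'_mul]; rfl

theorem toMatrix'_baseRep {n : ℕ} (τ : K →+* L) (ρ : Representation K G (Fin n → K)) (g : G) :
    LinearMap.toMatrix' (baseRep τ ρ g) = (LinearMap.toMatrix' (ρ g)).map τ :=
  LinearMap.toMatrix'_toLin' _

theorem character_baseRep {n : ℕ} (τ : K →+* L) (ρ : Representation K G (Fin n → K)) (g : G) :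
    (baseRep τ ρ).character g = τ (ρ.character g) := by
  have h1 : ρ.character g = (LinearMap.toMatrix' (ρ g)).trace := by
    rw [Representation.character, ← Matrix.trace_toLin'_eq, Matrix.toLin'_toMatrix']
  rw [h1, AddMonoidHom.map_trace τ]
  exact Matrix.trace_toLin'_eq _

end basechange

section real
variable {K : Type} [Field K] (τ : K →+* ℂ) {G : Type u} [Group G]

/-- `χ` is afforded by a representation over the subfield `K`. -/
def RealOver (χ : G → ℂ) : Prop :=
  ∃ (n : ℕ) (ρ : Representation K G (Fin n → K)), χ = fun g => τ (ρ.character g)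

/-- `χ` is afforded by an irreducible representation over the subfield `K`. -/
def IrrOver (χ : G → ℂ) : Prop :=
  ∃ (n : ℕ) (ρ : Representation K G (Fin n → K)), ρ.IsIrreducible ∧ χ = fun g => τ (ρ.character g)

theorem realOver_rep {V : Type*} [AddCommGroup V] [Module K V] [FiniteDimensional K V]
    (ρ : Representation K G V) : RealOver τ (fun g => τ (ρ.character g)) :=
  ⟨_, repConj ρ (Module.finBasis K V).equivFun, by rw [repConj_character]⟩

theorem irrOver_rep {V : Type*} [AddCommGroup V] [Module K V] [FiniteDimensional K V]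
    (ρ : Representation K G V) [ρ.IsIrreducible] : IrrOver τ (fun g => τ (ρ.character g)) :=
  ⟨_, repConj ρ (Module.finBasis K V).equivFun, isIrreducible_of_equiv (repConjEquiv ρ _),
    by rw [repConj_character]⟩

theorem IrrOver.realOver {χ : G → ℂ} (h : IrrOver τ χ) : RealOver τ χ := by
  obtain ⟨n, ρ, -, h⟩ := h
  exact ⟨n, ρ, h⟩

theorem RealOver.isChar {χ : G → ℂ} (h : RealOver τ χ) : IsCharacter G χ := by
  obtain ⟨n, ρ, rfl⟩ := h
  exact ⟨n, baseRep τ ρ, funext (character_baseRep τ ρ)⟩

theorem realOver_zero : RealOver τ (0 : G → ℂ) :=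
  ⟨0, Representation.trivial K G _, by ext g; simp [Representation.character]⟩

theorem RealOver.add {χ ψ : G → ℂ} (h : RealOver τ χ) (h' : RealOver τ ψ) :
    RealOver τ (χ + ψ) := by
  obtain ⟨n, ρ, rfl⟩ := h
  obtain ⟨m, σ, rfl⟩ := h'
  have := realOver_rep τ (ρ.prod σ)
  rw [character_prod] at this
  simpa [Pi.add_def] using this

theorem RealOver.ind [Fintype G] (H : Subgroup G) {θ : H → ℂ} (h : RealOver τ θ) :
    RealOver τ (indFun H θ) := by
  obtain ⟨n, ρ, rfl⟩ := h
  have h1 := realOver_rep τ (indRep H ρ)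
  convert h1 using 1
  ext g
  have h2 := congrArg τ (card_mul_indRep_character H ρ g)
  rw [map_mul, map_natCast, map_sum] at h2
  rw [indFun_apply, inv_mul_eq_iff_eq_mul₀ (card_ne_zero' H), h2]
  refine Finset.sum_congr rfl fun x _ => ?_
  generalize x⁻¹ * g * x = y
  by_cases hy : y ∈ H
  · rw [ebz_of_mem H _ hy]
    exact congrArg τ (Subtype.val_injective.extend_apply ρ.character 0 (⟨y, hy⟩ : H)).symm
  · rw [ebz_of_not_mem H _ hy, Function.extend_apply' _ _ y (by rintro ⟨a, ha⟩; exact hy (ha ▸ a.2))]
    simp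

theorem realOver_hom (lam : G →* ℂˣ) (h : ∀ g, (lam g : ℂ) ∈ τ.range) :
    RealOver τ (fun g => (lam g : ℂ)) := by
  choose f hf using h
  let ρ : Representation K G K :=
    { toFun := fun g => f g • LinearMap.id
      map_one' := by
        have : f 1 = 1 := τ.injective (by simp [hf])
        ext; simp [this]
      map_mul' := fun a b => by
        have : f (a * b) = f a * f b := τ.injective (by simp [hf])
        ext; simp [this, mul_comm] }
  have := realOver_rep τ ρ
  convert this using 2 with g
  simp [Representation.character, ρ, hf]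

variable [Finite G]

theorem mem_closure_irrOver_aux (n : ℕ) : ∀ (V : Type) [AddCommGroup V] [Module K V]
    [FiniteDimensional K V] (ρ : Representation K G V), Module.finrank K V = n →
    (fun g => τ (ρ.character g)) ∈ AddSubgroup.closure {ψ : G → ℂ | IrrOver τ ψ} := by
  have : CharZero K := τ.charZero
  have : NeZero (Nat.card G : K) := ⟨Nat.cast_ne_zero.mpr Nat.card_pos.ne'⟩
  induction n using Nat.strong_induction_on with
  | _ n ih =>
    intro V _ _ _ ρ hn
    rcases subsingleton_or_nontrivial V with h | h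
    · have : (fun g => τ (ρ.character g)) = 0 := by
        ext g
        simp [Representation.character, Subsingleton.elim (ρ g) 0]
      rw [this]
      exact zero_mem _
    by_cases hirr : ρ.IsIrreducible
    · exact AddSubgroup.subset_closure (irrOver_rep τ ρ)
    obtain ⟨U, W, hU, hW, hUW⟩ := exists_split_of_not_isIrreducible ρ hirr
    rw [character_eq_add_of_isCompl ρ U W hUW]
    have h1 := Submodule.finrank_add_eq_of_isCompl hUW
    have h2 : 0 < Module.finrank K U.toSubmodule := by
      rw [Nat.pos_iff_ne_zero, ne_eq, Submodule.finrank_eq_zero]; exact hU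
    have h3 : 0 < Module.finrank K W.toSubmodule := by
      rw [Nat.pos_iff_ne_zero, ne_eq, Submodule.finrank_eq_zero]; exact hW
    have := add_mem (ih _ (by omega) _ U.toRepresentation rfl)
      (ih _ (by omega) _ W.toRepresentation rfl)
    simpa [Pi.add_def] using this

theorem RealOver.mem_closure {χ : G → ℂ} (h : RealOver τ χ) :
    χ ∈ AddSubgroup.closure {ψ : G → ℂ | IrrOver τ ψ} := by
  obtain ⟨n, ρ, rfl⟩ := h
  exact mem_closure_irrOver_aux τ _ _ ρ rfl

omit [Finite G] in
theorem IrrOver.inner_eq_zero [Fintype G] {χ ψ : G → ℂ} (h : IrrOver τ χ) (h' : IrrOver τ ψ)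
    (hne : χ ≠ ψ) : classInner χ ψ = 0 := by
  have : CharZero K := τ.charZero
  have hψ := h'.realOver.isChar
  obtain ⟨n, ρ, hρ, rfl⟩ := h
  obtain ⟨m, σ, hσ, rfl⟩ := h'
  have := invertibleOfNonzero (Nat.cast_ne_zero.mpr (Nat.card_pos (α := G)).ne' :
    (Nat.card G : K) ≠ 0)
  have h1 := Representation.card_inv_mul_sum_char_mul_char_eq_finrank σ ρ
  have : IsEmpty (σ.Equiv ρ) := ⟨fun e => hne (by rw [Representation.char_iso e])⟩
  rw [Module.finrank_zero_of_subsingleton] at h1
  have h2 := congrArg τ h1
  simp only [map_mul, map_inv₀, map_natCast, map_sum, Nat.cast_zero, map_zero] at h2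
  rw [classInner, ← h2]
  congr 1
  refine Finset.sum_congr rfl fun g _ => ?_
  rw [← apply_inv_of_isChar hψ]

/-- An irreducible complex character lying in the integer span of characters afforded over `K` is
afforded over `K`. -/
theorem realOver_of_mem_closure {χ : G → ℂ} (hχ : IsIrrCharacter G χ)
    (h : χ ∈ AddSubgroup.closure {ψ : G → ℂ | IrrOver τ ψ}) : RealOver τ χ := by
  have := Fintype.ofFinite G
  have h1 : ∃ ψ, IrrOver τ ψ ∧ classInner ψ χ ≠ 0 := by
    by_contra hcon
    push Not at hcon
    have : ∀ f ∈ AddSubgroup.closure {ψ : G → ℂ | IrrOver τ ψ}, classInner f χ = 0 := by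
      intro f hf
      induction hf using AddSubgroup.closure_induction with
      | mem f hf => exact hcon f hf
      | zero => exact inner_zero_left _
      | add a b _ _ ha hb => rw [inner_add_left, ha, hb, add_zero]
      | neg a _ ha => rw [inner_neg_left, ha, neg_zero]
    have h2 := this χ h
    rw [inner_self_of_isIrr hχ] at h2
    exact one_ne_zero h2
  obtain ⟨ψ, hψ, h2⟩ := h1
  have hψc := hψ.realOver.isChar
  have h3 : ∀ f ∈ AddSubgroup.closure {ψ : G → ℂ | IrrOver τ ψ},
      ∃ k : ℤ, classInner f ψ = k * classInner ψ ψ := by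
    intro f hf
    induction hf using AddSubgroup.closure_induction with
    | mem f hf =>
      by_cases e : f = ψ
      · exact ⟨1, by simp [e]⟩
      · exact ⟨0, by simp [IrrOver.inner_eq_zero τ hf hψ e]⟩
    | zero => exact ⟨0, by simp [inner_zero_left]⟩
    | add a b _ _ ha hb =>
      obtain ⟨k, hk⟩ := ha
      obtain ⟨l, hl⟩ := hb
      exact ⟨k + l, by rw [inner_add_left, hk, hl]; push_cast; ring⟩
    | neg a _ ha =>
      obtain ⟨k, hk⟩ := ha
      exact ⟨-k, by rw [inner_neg_left, hk]; push_cast; ring⟩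
  obtain ⟨k, hk⟩ := h3 χ h
  obtain ⟨a, ha⟩ := exists_nat_inner hψc (isChar_of_isIrr hχ)
  have ha' : classInner χ ψ = a := by rw [← inner_conj_symm, ha]; simp
  have hrest := isChar_sub_nat_smul hψc hχ ha le_rfl
  obtain ⟨c, hc⟩ := exists_nat_inner hrest hrest
  have hN : classInner ψ ψ = (c + a ^ 2 : ℕ) := by
    rw [inner_sub_left, inner_sub_right, inner_sub_right, inner_smul_left, inner_smul_right,
      inner_smul_left, inner_smul_right, ha, ha', inner_self_of_isIrr hχ] at hc
    simp only [map_natCast] at hc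
    push_cast
    linear_combination hc
  rw [ha', hN] at hk
  have hk' : (a : ℤ) = k * (c + a ^ 2) := by exact_mod_cast hk
  have ha0 : a ≠ 0 := by rw [ha] at h2; exact_mod_cast h2
  have ha1 : (1 : ℤ) ≤ a := by exact_mod_cast Nat.pos_of_ne_zero ha0
  have hc0 : (0 : ℤ) ≤ c := Nat.cast_nonneg c
  have hk1 : 1 ≤ k := by
    by_contra hlt
    have : k * (c + a ^ 2) ≤ 0 := mul_nonpos_of_nonpos_of_nonneg (by omega) (by positivity)
    omega
  have h4 : (c : ℤ) + a ^ 2 ≤ a := by nlinarith
  have h5 : (c : ℤ) + a ^ 2 = 1 := by nlinarith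
  have h6 : c + a ^ 2 = 1 := by exact_mod_cast h5
  rw [h6, Nat.cast_one] at hN
  rw [← eq_of_inner_ne_zero (isIrr_of_isChar_of_inner_self hψc hN) hχ h2]
  exact hψ.realOver

/-- Brauer's splitting field theorem at the level of characters. -/
theorem realOver_of_isChar (hK : ∀ z : ℂ, z ^ Monoid.exponent G = 1 → z ∈ τ.range) {χ : G → ℂ}
    (hχ : IsCharacter G χ) : RealOver τ χ := by
  have := Fintype.ofFinite G
  refine isChar_induction (realOver_zero τ) (fun χ hχ => ?_) (fun _ _ _ _ h h' => h.add τ h') hχ
  refine realOver_of_mem_closure τ hχ ?_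
  refine (AddSubgroup.closure_le _).mpr ?_ (mem_brSpan_of_isGen (isGen_of_isIrr hχ))
  rintro _ ⟨E, -, lam, rfl⟩
  refine RealOver.mem_closure τ (RealOver.ind τ E (realOver_hom τ lam fun e => hK _ ?_))
  have : e ^ Monoid.exponent G = 1 := Subtype.ext (Monoid.pow_exponent_eq_one (e : G))
  rw [← Units.val_pow_eq_pow_val, ← map_pow, this, map_one, Units.val_one]

theorem exists_equiv_baseRep (hK : ∀ z : ℂ, z ^ Monoid.exponent G = 1 → z ∈ τ.range) {n : ℕ}
    (ρ : Representation ℂ G (Fin n → ℂ)) :
    ∃ σ : Representation K G (Fin n → K), Nonempty (ρ.Equiv (baseRep τ σ)) := by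
  obtain ⟨m, σ, h⟩ := realOver_of_isChar τ hK ⟨n, ρ, rfl⟩
  have h1 := congrFun h 1
  simp only [Representation.char_one, Module.finrank_fin_fun, map_natCast, Nat.cast_inj] at h1
  subst h1
  exact ⟨σ, nonempty_equiv_of_character_eq _ _ (h.trans (funext (character_baseRep τ σ)).symm)⟩

end real

end Cfsg.Agent.Ind
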